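import Cfsg.Agent.Spor.O351N1.D0

set_option autoImplicit false
set_option maxRecDepth 100000000
set_option Elab.async false

namespace Cfsg.Agent.Spor.O351N1

theorem ok0 : Net.okb 1 n0 = true := by decide +kernel

theorem ok1 : Net.okb 1 n1 = true := by decide +kernel

theorem ok2 : Net.okb 1 n2 = true := by decide +kernel

theorem ok3 : Net.okb 1 n3 = true := by decide +kernel

theorem ok4 : Net.okb 1 n4 = true := by decide +kernel

theorem ok5 : Net.okb 1 n5 = true := by decide +kernel

theorem ok6 : Net.okb 1 n6 = true := by decide +kernel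

theorem ok7 : Net.okb 1 n7 = true := by decide +kernel

theorem rel0 : T.rel 1 [1, 1] 0 1 = true := by decide +kernel

theorem rel1 : T.rel 1 [2, 2] 0 1 = true := by decide +kernel

theorem rel2 : T.rel 1 [3, 3] 0 1 = true := by decide +kernel

theorem rel3 : T.rel 1 [4, 4] 0 1 = true := by decide +kernel

theorem rel4 : T.rel 1 [5, 5] 0 1 = true := by decide +kernel

theorem rel5 : T.rel 1 [6, 6] 0 1 = true := by decide +kernel

theorem rel6 : T.rel 1 [7, 7] 0 1 = true := by decide +kernel

theorem rel7 : T.rel 1 [8, 8] 0 1 = true := by decide +kernel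

theorem rel8 : T.rel 1 [2, 1, 2, 1, 2, 1] 0 1 = true := by decide +kernel

theorem rel9 : T.rel 1 [3, 1, 3, 1] 0 1 = true := by decide +kernel

theorem rel10 : T.rel 1 [4, 1, 4, 1] 0 1 = true := by decide +kernel

theorem rel11 : T.rel 1 [5, 1, 5, 1] 0 1 = true := by decide +kernel

theorem rel12 : T.rel 1 [6, 1, 6, 1] 0 1 = true := by decide +kernel

theorem rel13 : T.rel 1 [7, 1, 7, 1] 0 1 = true := by decide +kernel

theorem rel14 : T.rel 1 [8, 1, 8, 1] 0 1 = true := by decide +kernel

theorem rel15 : T.rel 1 [3, 2, 3, 2, 3, 2] 0 1 = true := by decide +kernel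

theorem rel16 : T.rel 1 [4, 2, 4, 2] 0 1 = true := by decide +kernel

theorem rel17 : T.rel 1 [5, 2, 5, 2] 0 1 = true := by decide +kernel

theorem rel18 : T.rel 1 [6, 2, 6, 2] 0 1 = true := by decide +kernel

theorem rel19 : T.rel 1 [7, 2, 7, 2] 0 1 = true := by decide +kernel

theorem rel20 : T.rel 1 [8, 2, 8, 2] 0 1 = true := by decide +kernel

theorem rel21 : T.rel 1 [4, 3, 4, 3, 4, 3] 0 1 = true := by decide +kernel

theorem rel22 : T.rel 1 [5, 3, 5, 3] 0 1 = true := by decide +kernel

theorem rel23 : T.rel 1 [6, 3, 6, 3] 0 1 = true := by decide +kernel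

theorem rel24 : T.rel 1 [7, 3, 7, 3, 7, 3] 0 1 = true := by decide +kernel

theorem rel25 : T.rel 1 [8, 3, 8, 3] 0 1 = true := by decide +kernel

theorem rel26 : T.rel 1 [5, 4, 5, 4, 5, 4] 0 1 = true := by decide +kernel

theorem rel27 : T.rel 1 [6, 4, 6, 4] 0 1 = true := by decide +kernel

theorem rel28 : T.rel 1 [7, 4, 7, 4] 0 1 = true := by decide +kernel

theorem rel29 : T.rel 1 [8, 4, 8, 4] 0 1 = true := by decide +kernel

theorem rel30 : T.rel 1 [6, 5, 6, 5, 6, 5] 0 1 = true := by decide +kernel

theorem rel31 : T.rel 1 [7, 5, 7, 5] 0 1 = true := by decide +kernel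

theorem rel32 : T.rel 1 [8, 5, 8, 5] 0 1 = true := by decide +kernel

theorem rel33 : T.rel 1 [7, 6, 7, 6] 0 1 = true := by decide +kernel

theorem rel34 : T.rel 1 [8, 6, 8, 6] 0 1 = true := by decide +kernel

theorem rel35 : T.rel 1 [8, 7, 8, 7, 8, 7] 0 1 = true := by decide +kernel

theorem rel36 : T.rel 1 [8, 7, 3, 5, 4, 3, 1, 2, 3, 8, 7, 3, 5, 4, 3, 1, 2, 3, 8, 7, 3, 5, 4, 3, 1, 2, 3, 8, 7, 3, 5, 4, 3, 1, 2, 3, 8, 7, 3, 5, 4, 3, 1, 2, 3, 8, 7, 3, 5, 4, 3, 1, 2, 3, 8, 7, 3, 5, 4, 3, 1, 2, 3, 8, 7, 3, 5, 4, 3, 1, 2, 3, 8, 7, 3, 5, 4, 3, 1, 2, 3, 8, 7, 3, 5, 4, 3, 1, 2, 3] 0 1 = true := by decide +kernel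

theorem rel37 : T.rel 1 [7, 6, 5, 4, 3, 2, 1, 7, 6, 5, 4, 3, 2, 1, 7, 6, 5, 4, 3, 2, 1, 7, 6, 5, 4, 3, 2, 1, 7, 6, 5, 4, 3, 2, 1, 7, 6, 5, 4, 3, 2, 1, 7, 6, 5, 4, 3, 2, 1, 7, 6, 5, 4, 3, 2, 1, 7, 6, 5, 4, 3, 2, 1] 0 1 = true := by decide +kernel

theorem rel38 : T.rel 1 [1] 0 1 = true := by decide +kernel

theorem hcov : T.treeCov (ones 1) L 1 = true := by decide +kernel

theorem hg : lall (fun z => band (memL L z) (band (sub (ones 1) (T.let z).cl) (T.closed (ones 1) z))) gs = true := by decide +kernel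

theorem hivk : ivOk (2 * 8) EX IV = true := by decide +kernel

theorem hrt : RT.ok (2 * 8) EX RL = true := by decide +kernel

theorem hdefs : defs F 30 = true := by decide +kernel

noncomputable def st0_l : List Nat := [nat_lit 0x1, nat_lit 0x8000f402, nat_lit 0x1001, nat_lit 0x2000001002, nat_lit 0x218000080007e000030002180000806, nat_lit 0x180011402, nat_lit 0x60001f80001c03, nat_lit 0x200000c000470000380002405, nat_lit 0x2801, nat_lit 0x2600002802, nat_lit 0x2780002000092000090002780002006, nat_lit 0xa00004a0002880001804, nat_lit 0x380014c02, nat_lit 0xc0001f80003403, nat_lit 0xc0002380003403, nat_lit 0xe0002b80003c03, nat_lit 0x3800018000550000680003c05, nat_lit 0x100002e80004403, nat_lit 0x400001c000590000780004405, nat_lit 0x4801, nat_lit 0x3100004802, nat_lit 0x32800040000b6000110003280004006, nat_lit 0xcc000600003380003804, nat_lit 0x34000198000bc000670003480003006, nat_lit 0x68001ac02, nat_lit 0x140001f80005403, nat_lit 0x140002380005403, nat_lit 0x140002a80005403, nat_lit 0x160003780005c03,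 nat_lit 0x160003880005c03, nat_lit 0x58000280006d0000a80005c05, nat_lit 0x180003a80006403, nat_lit 0x180003c80006403, nat_lit 0x600002c000730000b80006405, nat_lit 0x1a0003f80006c03, nat_lit 0x1a0003e80006c03, nat_lit 0x6800030000770000c80006c05, nat_lit 0x7001, nat_lit 0x4300007002, nat_lit 0x44800068000f60001b0004480006806, nat_lit 0x114000840004580006004, nat_lit 0x46000228001000008b0004680005806, nat_lit 0x11c0008c00045000208001160008d0004780005008, nat_lit 0xa80024402, nat_lit 0x1e0001f80007c03, nat_lit 0x1e0002380007c03, nat_lit 0x1e0002a80007c03, nat_lit 0x1e0003680007c03, nat_lit 0x200004a80008403, nat_lit 0x200004b80008403, nat_lit 0x200004c80008403, nat_lit 0x800003c000930000f80008405, nat_lit 0x220004e80008c03, nat_lit 0x220004f80008c03, nat_lit 0x220005180008c03, nat_lit 0x88000400009b0001080008c05, nat_lit 0x240005280009403, nat_lit 0x240005580009403, nat_lit 0x240005480009403, nat_lit 0x9000044000a10001180009405, nat_lit 0x260005980009c03, nat_lit 0x260005780009c03, nat_lit 0x260005880009c03,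 nat_lit 0x9800048000a70001280009c05, nat_lit 0xa001, nat_lit 0x5e0000a002, nat_lit 0x5f8000980015a000270005f80009806, nat_lit 0x180000ba0006080009004, nat_lit 0x6100030000168000c10006180008806, nat_lit 0x188000c2000600002d800182000c30006280008008, nat_lit 0x6300031000184000c00005c00030400186000c5000638000780a, nat_lit 0xf80032402, nat_lit 0x2a0001f8000ac03, nat_lit 0x2a000238000ac03, nat_lit 0x2c000668000b403, nat_lit 0xb00005400055000158000b405, nat_lit 0x2e000698000bc03, nat_lit 0xb800058000cf000168000bc05, nat_lit 0xc001, nat_lit 0x6c0000c002, nat_lit 0x6d8000b8001a20002f0006d8000b806, nat_lit 0x1b8000d60006e8000b004, nat_lit 0x6f000370001a8000dd0006f8000a806, nat_lit 0x1580038402, nat_lit 0x320001f8000cc03, nat_lit 0x32000238000cc03, nat_lit 0x320002a8000cc03, nat_lit 0x34000728000d403, nat_lit 0x34000738000d403, nat_lit 0xd000064000e3000198000d405, nat_lit 0x36000758000dc03, nat_lit 0x36000778000dc03, nat_lit 0xd800068000e90001a8000dc05, nat_lit 0x380007a8000e403, nat_lit 0x38000798000e403, nat_lit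 0xe00006c000ed0001b8000e405, nat_lit 0xe801, nat_lit 0x7e0000e802, nat_lit 0x7f8000e0001e2000390007f8000e006, nat_lit 0x200000fa000808000d804, nat_lit 0x81000400001ec00101000818000d006, nat_lit 0x20800102000800003e00020200103000828000c808, nat_lit 0x1980041c02]
theorem st0 : band (steps F IV RT base st0_l 30) (Nat.beq (Nat.add 30 (llen st0_l)) 133) = true := by decide +kernel

theorem ep0a : T.treePath [] (Nat.shiftLeft 1 0) 1 = true := by decide +kernel

theorem ep0b : T.treePath [] (Nat.shiftLeft 1 0) 1 = true := by decide +kernel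

theorem ep0c : band (lall (fun z => Nat.ble z 255) ([] ++ 1 :: [])) (concl F IV 133 0xf801 (encA ([] ++ 1 :: []) 0)) = true := by decide +kernel

theorem ep0d : band (Rule.ok (2 * 8) EX [] ⟨lapp [] [], [], 0, false⟩) (band (lall (memL L) []) (lall (memL L) [])) = true := by decide +kernel

theorem cov1 : T.cover 1 [(Nat.shiftLeft 1 0)] = true := by decide +kernel

theorem tl1 : Nat.beq (T.let 1).tt 0 = true := by decide +kernel

theorem ep1a : T.treePath [] (Nat.shiftLeft 1 0) 1 = true := by decide +kernel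

theorem ep1b : T.treePath [] (Nat.shiftLeft 1 0) 1 = true := by decide +kernel

theorem ep1c : band (lall (fun z => Nat.ble z 255) ([] ++ 2 :: [])) (concl F IV 133 0x11801 (encA ([] ++ 2 :: []) 0)) = true := by decide +kernel

theorem ep1d : band (Rule.ok (2 * 8) EX [] ⟨lapp [] [], [], 0, false⟩) (band (lall (memL L) []) (lall (memL L) [])) = true := by decide +kernel

theorem cov2 : T.cover 2 [(Nat.shiftLeft 1 0)] = true := by decide +kernel

theorem tl2 : Nat.beq (T.let 2).tt 0 = true := by decide +kernel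

theorem ep2a : T.treePath [] (Nat.shiftLeft 1 0) 1 = true := by decide +kernel

theorem ep2b : T.treePath [] (Nat.shiftLeft 1 0) 1 = true := by decide +kernel

theorem ep2c : band (lall (fun z => Nat.ble z 255) ([] ++ 3 :: [])) (concl F IV 133 0x15001 (encA ([] ++ 3 :: []) 0)) = true := by decide +kernel

theorem ep2d : band (Rule.ok (2 * 8) EX [] ⟨lapp [] [], [], 0, false⟩) (band (lall (memL L) []) (lall (memL L) [])) = true := by decide +kernel

theorem cov3 : T.cover 3 [(Nat.shiftLeft 1 0)] = true := by decide +kernel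

theorem tl3 : Nat.beq (T.let 3).tt 0 = true := by decide +kernel

theorem ep3a : T.treePath [] (Nat.shiftLeft 1 0) 1 = true := by decide +kernel

theorem ep3b : T.treePath [] (Nat.shiftLeft 1 0) 1 = true := by decide +kernel

theorem ep3c : band (lall (fun z => Nat.ble z 255) ([] ++ 4 :: [])) (concl F IV 133 0x1b001 (encA ([] ++ 4 :: []) 0)) = true := by decide +kernel

theorem ep3d : band (Rule.ok (2 * 8) EX [] ⟨lapp [] [], [], 0, false⟩) (band (lall (memL L) []) (lall (memL L) [])) = true := by decide +kernel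

theorem cov4 : T.cover 4 [(Nat.shiftLeft 1 0)] = true := by decide +kernel

theorem tl4 : Nat.beq (T.let 4).tt 0 = true := by decide +kernel

theorem ep4a : T.treePath [] (Nat.shiftLeft 1 0) 1 = true := by decide +kernel

theorem ep4b : T.treePath [] (Nat.shiftLeft 1 0) 1 = true := by decide +kernel

theorem ep4c : band (lall (fun z => Nat.ble z 255) ([] ++ 5 :: [])) (concl F IV 133 0x24801 (encA ([] ++ 5 :: []) 0)) = true := by decide +kernel

theorem ep4d : band (Rule.ok (2 * 8) EX [] ⟨lapp [] [], [], 0, false⟩) (band (lall (memL L) []) (lall (memL L) [])) = true := by decide +kernel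

theorem cov5 : T.cover 5 [(Nat.shiftLeft 1 0)] = true := by decide +kernel

theorem tl5 : Nat.beq (T.let 5).tt 0 = true := by decide +kernel

theorem ep5a : T.treePath [] (Nat.shiftLeft 1 0) 1 = true := by decide +kernel

theorem ep5b : T.treePath [] (Nat.shiftLeft 1 0) 1 = true := by decide +kernel

theorem ep5c : band (lall (fun z => Nat.ble z 255) ([] ++ 6 :: [])) (concl F IV 133 0x32801 (encA ([] ++ 6 :: []) 0)) = true := by decide +kernel

theorem ep5d : band (Rule.ok (2 * 8) EX [] ⟨lapp [] [], [], 0, false⟩) (band (lall (memL L) []) (lall (memL L) [])) = true := by decide +kernel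

theorem cov6 : T.cover 6 [(Nat.shiftLeft 1 0)] = true := by decide +kernel

theorem tl6 : Nat.beq (T.let 6).tt 0 = true := by decide +kernel

theorem ep6a : T.treePath [] (Nat.shiftLeft 1 0) 1 = true := by decide +kernel

theorem ep6b : T.treePath [] (Nat.shiftLeft 1 0) 1 = true := by decide +kernel

theorem ep6c : band (lall (fun z => Nat.ble z 255) ([] ++ 7 :: [])) (concl F IV 133 0x38801 (encA ([] ++ 7 :: []) 0)) = true := by decide +kernel

theorem ep6d : band (Rule.ok (2 * 8) EX [] ⟨lapp [] [], [], 0, false⟩) (band (lall (memL L) []) (lall (memL L) [])) = true := by decide +kernel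

theorem cov7 : T.cover 7 [(Nat.shiftLeft 1 0)] = true := by decide +kernel

theorem tl7 : Nat.beq (T.let 7).tt 0 = true := by decide +kernel

theorem ep7a : T.treePath [] (Nat.shiftLeft 1 0) 1 = true := by decide +kernel

theorem ep7b : T.treePath [] (Nat.shiftLeft 1 0) 1 = true := by decide +kernel

theorem ep7c : band (lall (fun z => Nat.ble z 255) ([] ++ 8 :: [])) (concl F IV 133 0x42001 (encA ([] ++ 8 :: []) 0)) = true := by decide +kernel

theorem ep7d : band (Rule.ok (2 * 8) EX [] ⟨lapp [] [], [], 0, false⟩) (band (lall (memL L) []) (lall (memL L) [])) = true := by decide +kernel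

theorem cov8 : T.cover 8 [(Nat.shiftLeft 1 0)] = true := by decide +kernel

theorem tl8 : Nat.beq (T.let 8).tt 0 = true := by decide +kernel

end Cfsg.Agent.Spor.O351N1
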