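import Cfsg.Agent.Spor.Chk

set_option autoImplicit false
set_option maxRecDepth 100000000
set_option Elab.async false
noncomputable section

namespace Cfsg.Agent.Spor.O351N1

def n0 : Net := Net.nil

def n1 : Net := Net.nil

def n2 : Net := Net.nil

def n3 : Net := Net.nil

def n4 : Net := Net.nil

def n5 : Net := Net.nil

def n6 : Net := Net.nil

def n7 : Net := Net.nil

def ip1 : List Nat := []
def l1 : Let := ⟨0, false, 0x1, 0x0, [0x0]⟩

def ip2 : List Nat := []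
def l2 : Let := ⟨1, false, 0x1, 0x0, [0x0]⟩

def ip3 : List Nat := []
def l3 : Let := ⟨2, false, 0x1, 0x0, [0x0]⟩

def ip4 : List Nat := []
def l4 : Let := ⟨3, false, 0x1, 0x0, [0x0]⟩

def ip5 : List Nat := []
def l5 : Let := ⟨4, false, 0x1, 0x0, [0x0]⟩

def ip6 : List Nat := []
def l6 : Let := ⟨5, false, 0x1, 0x0, [0x0]⟩

def ip7 : List Nat := []
def l7 : Let := ⟨6, false, 0x1, 0x0, [0x0]⟩

def ip8 : List Nat := []
def l8 : Let := ⟨7, false, 0x1, 0x0, [0x0]⟩

def F : Nat := nat_lit 0x80000000000000001a0001a000001b0001b000001c0001c000001d0001d010001d0001d000001e0001d030001d0001d080001d0001d070001d0001c070001c0001c080001c0001c010001c0001b080001b0001b020001b0001b010001b0001a030001a0001a020001a0001a010001a00000070000000000000001600016000001700017000001800018010001800018000001900018030001800018070001800017070001700017010001700016020001600016010001600000060000000000000001000010000001100011000001200012000001300013000001400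014010001400014000001500014030001400014060001400014050001400014040001400013040001300013060001300013050001300013010001300012050001200012060001200012020001200012010001200011060001100011030001100011020001100011010001100010040001000010030001000010020001000010010001000000050000000000000000b0000b000000c0000c000000d0000d000000e0000e010000e0000e000000f0000e030000e0000e050000e0000e040000e0000d040000d0000d050000d0000d010000d0000c050000c0000c020000c0000c010000c0000b030000b0000b020000b0000b010000b00000040000000000000000700007000000800008000000900009010000900009000000a0000903000090000904000090000804000080000801000080000702000070000701000070000003000000000000000040000400000050000501000050000500000060000503000050000401000040000002000000000000000020000201000020000200000030000001000000000000000010001e010001d0001d020001c0001c030001b0001b070001a0001a08000000001901000180001802000170001703000160001607000000001501000140001402000130001303000120001204000110001105000100001006000000000f010000e0000e020000d0000d030000c0000c040000b0000b05000000000a0100009000090200008000080300007000070400000000060100005000050200004000040300000000030100002000020200000000010100000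

def rt0_10 : RTree := RTree.node 0x505 ⟨[5, 5], [], 31, false⟩ (RTree.node 0x202 ⟨[2, 2], [], 31, false⟩ (RTree.node 0x101 ⟨[1, 1], [], 31, false⟩ (RTree.node 0x1 ⟨[1], [], 30, true⟩ (RTree.leaf) (RTree.leaf)) (RTree.leaf)) (RTree.node 0x404 ⟨[4, 4], [], 31, false⟩ (RTree.node 0x303 ⟨[3, 3], [], 31, false⟩ (RTree.leaf) (RTree.leaf)) (RTree.leaf))) (RTree.node 0x808 ⟨[8, 8], [], 31, false⟩ (RTree.node 0x707 ⟨[7, 7], [], 31, false⟩ (RTree.node 0x606 ⟨[6, 6], [], 31, false⟩ (RTree.leaf) (RTree.leaf)) (RTree.leaf)) (RTree.node 0x1030103 ⟨[1, 3, 1, 3], [], 1, false⟩ (RTree.leaf) (RTree.leaf)))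
def rt11_20 : RTree := RTree.node 0x2040204 ⟨[2, 4, 2, 4], [], 8, false⟩ (RTree.node 0x1070107 ⟨[1, 7, 1, 7], [], 5, false⟩ (RTree.node 0x1060106 ⟨[1, 6, 1, 6], [], 4, false⟩ (RTree.node 0x1050105 ⟨[1, 5, 1, 5], [], 3, false⟩ (RTree.leaf) (RTree.leaf)) (RTree.leaf)) (RTree.node 0x1080108 ⟨[1, 8, 1, 8], [], 6, false⟩ (RTree.leaf) (RTree.leaf))) (RTree.node 0x2070207 ⟨[2, 7, 2, 7], [], 11, false⟩ (RTree.node 0x2060206 ⟨[2, 6, 2, 6], [], 10, false⟩ (RTree.node 0x2050205 ⟨[2, 5, 2, 5], [], 9, false⟩ (RTree.leaf) (RTree.leaf)) (RTree.leaf)) (RTree.node 0x2080208 ⟨[2, 8, 2, 8], [], 12, false⟩ (RTree.leaf) (RTree.leaf)))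
def rt0_20 : RTree := RTree.node 0x1040104 ⟨[1, 4, 1, 4], [], 2, false⟩ (rt0_10) (rt11_20)
def rt21_30 : RTree := RTree.node 0x5020502 ⟨[5, 2, 5, 2], [], 9, true⟩ (RTree.node 0x4020402 ⟨[4, 2, 4, 2], [], 8, true⟩ (RTree.node 0x3080308 ⟨[3, 8, 3, 8], [], 17, false⟩ (RTree.node 0x3060306 ⟨[3, 6, 3, 6], [], 15, false⟩ (RTree.leaf) (RTree.leaf)) (RTree.leaf)) (RTree.node 0x4060406 ⟨[4, 6, 4, 6], [], 19, false⟩ (RTree.leaf) (RTree.leaf))) (RTree.node 0x6030603 ⟨[6, 3, 6, 3], [], 15, true⟩ (RTree.node 0x6020602 ⟨[6, 2, 6, 2], [], 10, true⟩ (RTree.node 0x5030503 ⟨[5, 3, 5, 3], [], 14, true⟩ (RTree.leaf) (RTree.leaf)) (RTree.leaf)) (RTree.node 0x6040604 ⟨[6, 4, 6, 4], [], 19, true⟩ (RTree.leaf) (RTree.leaf)))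
def rt31_40 : RTree := RTree.node 0x40304030403 ⟨[4, 3, 4, 3, 4, 3], [], 13, true⟩ (RTree.node 0x20102010201 ⟨[2, 1, 2, 1, 2, 1], [], 0, true⟩ (RTree.node 0x8030803 ⟨[8, 3, 8, 3], [], 17, true⟩ (RTree.node 0x8020802 ⟨[8, 2, 8, 2], [], 12, true⟩ (RTree.leaf) (RTree.leaf)) (RTree.leaf)) (RTree.node 0x30203020302 ⟨[3, 2, 3, 2, 3, 2], [], 7, true⟩ (RTree.leaf) (RTree.leaf))) (RTree.node 0x70307030703 ⟨[7, 3, 7, 3, 7, 3], [], 16, true⟩ (RTree.node 0x60506050605 ⟨[6, 5, 6, 5, 6, 5], [], 22, true⟩ (RTree.node 0x50405040504 ⟨[5, 4, 5, 4, 5, 4], [], 18, true⟩ (RTree.leaf) (RTree.leaf)) (RTree.leaf)) (RTree.node 0x80708070807 ⟨[8, 7, 8, 7, 8, 7], [], 27, true⟩ (RTree.leaf) (RTree.leaf)))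
def rt21_40 : RTree := RTree.node 0x7020702 ⟨[7, 2, 7, 2], [], 11, true⟩ (rt21_30) (rt31_40)
def rt0_40 : RTree := RTree.node 0x3050305 ⟨[3, 5, 3, 5], [], 14, false⟩ (rt0_20) (rt21_40)
def RT : RTree := rt0_40

def NT : List Net := [n0, n1, n2, n3, n4, n5, n6, n7]
def LT : List Let := [⟨0, false, 0, 0, []⟩, l1, l2, l3, l4, l5, l6, l7, l8]
def T : Tab := ⟨NT, LT⟩
def EX : List (List Nat) := [[], [0], [2], [4], [6], [8], [10], [12], [14]]
def RL : List (List Nat) := [[0, 2, 0, 2, 0, 2], [0, 4, 0, 4], [0, 6, 0, 6], [0, 8, 0, 8], [0, 10, 0, 10], [0, 12, 0, 12], [0, 14, 0, 14], [2, 4, 2, 4, 2, 4], [2, 6, 2, 6], [2, 8, 2, 8], [2, 10, 2, 10], [2, 12, 2, 12], [2, 14, 2, 14], [4, 6, 4, 6, 4, 6], [4, 8, 4, 8], [4, 10, 4, 10], [4, 12, 4, 12, 4, 12], [4, 14, 4, 14], [6, 8, 6, 8, 6, 8], [6, 10, 6, 10], [6, 12, 6, 12], [6, 14, 6, 14], [8, 10, 8, 10, 8, 10], [8, 12, 8, 12], [8, 14, 8, 14], [10, 12, 10, 12], [10, 14, 10, 14], [12, 14,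 12, 14, 12, 14], [4, 2, 0, 4, 6, 8, 4, 12, 14, 4, 2, 0, 4, 6, 8, 4, 12, 14, 4, 2, 0, 4, 6, 8, 4, 12, 14, 4, 2, 0, 4, 6, 8, 4, 12, 14, 4, 2, 0, 4, 6, 8, 4, 12, 14, 4, 2, 0, 4, 6, 8, 4, 12, 14, 4, 2, 0, 4, 6, 8, 4, 12, 14, 4, 2, 0, 4, 6, 8, 4, 12, 14, 4, 2, 0, 4, 6, 8, 4, 12, 14, 4, 2, 0, 4, 6, 8, 4, 12, 14], [0, 2, 4, 6, 8, 10, 12, 0, 2, 4, 6, 8, 10, 12, 0, 2, 4, 6, 8, 10, 12, 0, 2, 4, 6, 8, 10, 12, 0, 2, 4, 6, 8, 10, 12, 0, 2, 4, 6, 8, 10, 12, 0, 2, 4, 6, 8, 10, 12, 0, 2, 4, 6, 8, 10, 12, 0, 2, 4, 6, 8, 10, 12], [0]]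
def XL : List (List Nat) := []
def BW : List (List Nat) := []
def IV : Nat := 0x80706050403020100
def L : List Nat := [1, 2, 3, 4, 5, 6, 7, 8]
def gs : List Nat := [1, 2, 3, 4, 5, 6, 7, 8]
def base : List Nat := []

end Cfsg.Agent.Spor.O351N1
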